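import Mathlib
import Groth.Prelude.Def_CohB1
import Groth.Prelude.Def_Pic
import Groth.Agent.Lib.Helper1.PullAmple
import Groth.Agent.Lib.Helper1.GenLoc
import Groth.Agent.Lib.Helper1.AmpleQA
import Groth.Agent.Lib.Helper1.InvQc
import Groth.Agent.Lib.Helper1.FPA8
import Groth.Agent.Lib.Helper4.LimHomF
import Groth.Agent.Lib.Helper7.LimStruct
import Groth.Agent.Lib.Helper7.ConsMod.Basic

set_option linter.style.haveILetI false
set_option linter.unusedVariables false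
set_option linter.unusedSectionVars false
set_option autoImplicit false
set_option backward.isDefEq.respectTransparency.types false
set_option backward.isDefEq.respectTransparency false
set_option synthInstance.maxHeartbeats 400000
set_option maxHeartbeats 1600000

universe u

/-! helper7: ampleness of the pullback of an invertible module to a cofiltered limit of quasi-compact quasi-separated schemes with affine transition maps descends to a finite stage (descent of sections, generating loci, affineness and coverings) -/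

open CategoryTheory CategoryTheory.Limits AlgebraicGeometry Opposite TopologicalSpace

namespace Groth.Agent.Helper7.LimAmple

open Groth.Agent.Helper1 Groth.Agent.Helper7.ConsMod

variable {I : Type u} [SmallCategory I] [IsCofiltered I] (D : I ⥤ Scheme.{u}) (c : Cone D)
  (hc : IsLimit c) [∀ (i j : I) (f : i ⟶ j), IsAffineHom (D.map f)] [∀ i, CompactSpace (D.obj i)]
  [∀ i, QuasiSeparatedSpace (D.obj i)] (i₀ : I) (L₀ : (D.obj i₀).Modules)
  (hL₀ : PicF.IsInvertible L₀)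

/-- the pullback of `L₀` to a stage over `i₀`. -/
noncomputable abbrev Lj (j : Over i₀) : (D.obj j.left).Modules :=
  (Scheme.Modules.pullback (D.map j.hom)).obj L₀

/-- `G` is the locus where some section of a positive tensor power of the pullback of `L₀`
generates. -/
def Sec (j : Over i₀) (G : (D.obj j.left).Opens) : Prop :=
  ∃ (n : ℕ) (t : Coh.structureModule (D.obj j.left) ⟶ CohB1.tensorPow (Lj D i₀ L₀ j) (n + 1)),
    CohB1.genLocus _ t = G

include hL₀ in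
omit [IsCofiltered I] [∀ (i j : I) (f : i ⟶ j), IsAffineHom (D.map f)]
  [∀ i, CompactSpace (D.obj i)] [∀ i, QuasiSeparatedSpace (D.obj i)] in
theorem sec_preimage {j k : Over i₀} (ψ : k ⟶ j) {G : (D.obj j.left).Opens}
    (hG : Sec D i₀ L₀ j G) : Sec D i₀ L₀ k (D.map ψ.left ⁻¹ᵁ G) := by
  obtain ⟨n, t, rfl⟩ := hG
  have hLj : PicF.IsInvertible (Lj D i₀ L₀ j) := PullGen.isInvertible_pullback _ hL₀
  have hw : D.map ψ.left ≫ D.map j.hom = D.map k.hom := by rw [← D.map_comp, Over.w]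
  let e : (Scheme.Modules.pullback (D.map ψ.left)).obj (Lj D i₀ L₀ j) ≅ Lj D i₀ L₀ k :=
    (pullbackFacIso hw L₀).symm
  refine ⟨n, PullAmple.pullPowSec (D.map ψ.left) hLj (n + 1) t ≫
    (TwistAmpleOpen.tensorPowCongr e (n + 1)).hom, ?_⟩
  rw [TwistAmple.genLocus_comp_iso, PullAmple.genLocus_pullPowSec]

include hc hL₀ in
theorem exists_sec_of_point
    (h : CohB1.IsAmple ((Scheme.Modules.pullback (c.π.app i₀)).obj L₀)) (x : c.pt) :
    ∃ (k : Over i₀) (G : (D.obj k.left).Opens), Sec D i₀ L₀ k G ∧ IsAffineOpen G ∧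
      x ∈ c.π.app k.left ⁻¹ᵁ G := by
  obtain ⟨n, s, hxs, hsaff⟩ := h.2.2 x
  have hI : ∀ {i j : I} (f : i ⟶ j), IsAffineHom (D.map f) := fun f => inferInstance
  have hM₀ : PicF.IsInvertible (CohB1.tensorPow L₀ (n + 1)) :=
    TwForm.isInvertible_tensorPow hL₀ (n + 1)
  haveI : (CohB1.tensorPow L₀ (n + 1)).IsQuasicoherent :=
    InvQc.isQuasicoherent_of_isInvertible _ hM₀
  haveI : (Coh.structureModule (D.obj i₀)).IsQuasicoherent :=
    InvQc.isQuasicoherent_of_isInvertible _ GenLoc.isInvertible_O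
  let u₀ := PullSec.unitIso (c.π.app i₀)
  let p₀ := PullPow.powIso (c.π.app i₀) hL₀ (n + 1)
  let h₀ : (Scheme.Modules.pullback (c.π.app i₀)).obj (Coh.structureModule (D.obj i₀)) ⟶
      (Scheme.Modules.pullback (c.π.app i₀)).obj (CohB1.tensorPow L₀ (n + 1)) :=
    u₀.hom ≫ s ≫ p₀.inv
  obtain ⟨j₁, φ₁, h₁, hh₁⟩ := Groth.Agent.Lib.Helper4.LimHomF.S4811_main D c hc i₀
    (Coh.structureModule (D.obj i₀)) (CohB1.tensorPow L₀ (n + 1)) (FPA.isFP_unit _) h₀
  let u₁ := PullSec.unitIso (D.map φ₁)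
  let p₁ := PullPow.powIso (D.map φ₁) hL₀ (n + 1)
  let t₁ : Coh.structureModule (D.obj j₁) ⟶
      CohB1.tensorPow ((Scheme.Modules.pullback (D.map φ₁)).obj L₀) (n + 1) :=
    u₁.inv ≫ h₁ ≫ p₁.hom
  let A := (Scheme.Modules.pullbackComp (c.π.app j₁) (D.map φ₁) ≪≫
    Scheme.Modules.pullbackCongr (c.w φ₁)).app (Coh.structureModule (D.obj i₀))
  let B := (Scheme.Modules.pullbackComp (c.π.app j₁) (D.map φ₁) ≪≫
    Scheme.Modules.pullbackCongr (c.w φ₁)).app (CohB1.tensorPow L₀ (n + 1))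
  let E : Coh.structureModule c.pt ≅
      (Scheme.Modules.pullback (c.π.app j₁)).obj (Coh.structureModule (D.obj j₁)) :=
    u₀.symm ≪≫ A.symm ≪≫ (Scheme.Modules.pullback (c.π.app j₁)).mapIso u₁
  let P : (Scheme.Modules.pullback (c.π.app j₁)).obj
        (CohB1.tensorPow ((Scheme.Modules.pullback (D.map φ₁)).obj L₀) (n + 1)) ≅
      CohB1.tensorPow ((Scheme.Modules.pullback (c.π.app i₀)).obj L₀) (n + 1) :=
    (Scheme.Modules.pullback (c.π.app j₁)).mapIso p₁.symm ≪≫ B ≪≫ p₀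
  have e2 : u₁.hom ≫ t₁ ≫ p₁.inv = h₁ := by simp [t₁]
  have e3 : (Scheme.Modules.pullback (c.π.app j₁)).map u₁.hom ≫
      (Scheme.Modules.pullback (c.π.app j₁)).map t₁ ≫
        (Scheme.Modules.pullback (c.π.app j₁)).map p₁.inv =
      (Scheme.Modules.pullback (c.π.app j₁)).map h₁ := by
    rw [← Functor.map_comp, ← Functor.map_comp, e2]
  have key : s = (E.hom ≫ (Scheme.Modules.pullback (c.π.app j₁)).map t₁) ≫ P.hom := by
    calc s = u₀.inv ≫ h₀ ≫ p₀.hom := by simp [h₀]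
      _ = u₀.inv ≫ (A.inv ≫ (Scheme.Modules.pullback (c.π.app j₁)).map h₁ ≫ B.hom) ≫ p₀.hom := by
          rw [← hh₁]
      _ = (E.hom ≫ (Scheme.Modules.pullback (c.π.app j₁)).map t₁) ≫ P.hom := by
          rw [← e3]
          simp only [E, P, Iso.trans_hom, Iso.symm_hom, Functor.mapIso_hom, Category.assoc]
  have hM₁ : PicF.IsInvertible
      (CohB1.tensorPow ((Scheme.Modules.pullback (D.map φ₁)).obj L₀) (n + 1)) :=
    TwForm.isInvertible_tensorPow (PullGen.isInvertible_pullback _ hL₀) (n + 1)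
  have hloc : CohB1.genLocus _ s = c.π.app j₁ ⁻¹ᵁ CohB1.genLocus _ t₁ := by
    rw [key, TwistAmple.genLocus_comp_iso, PullGen.genLocus_pullback (c.π.app j₁) hM₁ t₁ E]
  haveI : IsAffineHom (CohB1.genLocus _ t₁).ι := GenLoc.isAffineHom_genLocus_ι _ t₁ hM₁
  have hcomp : IsCompact ((CohB1.genLocus _ t₁ : (D.obj j₁).Opens) : Set (D.obj j₁)) := by
    have h2 : CompactSpace ↥(CohB1.genLocus _ t₁).toScheme :=
      QuasiCompact.compactSpace_of_compactSpace (CohB1.genLocus _ t₁).ι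
    exact isCompact_iff_compactSpace.mpr h2
  have haff : IsAffineOpen (c.π.app j₁ ⁻¹ᵁ CohB1.genLocus _ t₁) := hloc ▸ hsaff
  obtain ⟨k, ψ, hk⟩ := LimStruct.exists_isAffineOpen_preimage D c hc j₁ _ hcomp haff
  let jo : Over i₀ := Over.mk φ₁
  let ko : Over i₀ := Over.mk (ψ ≫ φ₁)
  let ψo : ko ⟶ jo := Over.homMk ψ rfl
  refine ⟨ko, D.map ψ ⁻¹ᵁ CohB1.genLocus _ t₁,
    sec_preimage D i₀ L₀ hL₀ ψo ⟨n, t₁, rfl⟩, hk, ?_⟩
  have hx : x ∈ c.π.app j₁ ⁻¹ᵁ CohB1.genLocus _ t₁ := hloc ▸ hxs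
  show (D.map ψ) ((c.π.app k) x) ∈ CohB1.genLocus _ t₁
  rw [← Scheme.Hom.comp_apply, c.w ψ]
  exact hx

include hc hL₀ in
/-- ampleness of the pullback of an invertible module to the limit descends to a stage. -/
theorem main (h : CohB1.IsAmple ((Scheme.Modules.pullback (c.π.app i₀)).obj L₀)) :
    ∃ (i : I) (φ : i ⟶ i₀), CohB1.IsAmple ((Scheme.Modules.pullback (D.map φ)).obj L₀) := by
  classical
  have hI : ∀ {i j : I} (f : i ⟶ j), IsAffineHom (D.map f) := fun f => inferInstance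
  haveI : CompactSpace c.pt := h.2.1
  choose k G hsec haff hx using exists_sec_of_point D c hc i₀ L₀ hL₀ h
  obtain ⟨T, hT⟩ := isCompact_univ.elim_finite_subcover
    (fun x : c.pt => ((c.π.app (k x).left ⁻¹ᵁ G x : c.pt.Opens) : Set c.pt))
    (fun x => (c.π.app (k x).left ⁻¹ᵁ G x).isOpen) (fun x _ => Set.mem_iUnion.2 ⟨x, hx x⟩)
  obtain ⟨m, hm⟩ := IsCofiltered.inf_objs_exists (T.image k)
  let ψ : ∀ x : {x // x ∈ T}, m ⟶ k x.1 := fun x => (hm (Finset.mem_image_of_mem k x.2)).some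
  let G' : {x // x ∈ T} → (D.obj m.left).Opens := fun x => D.map (ψ x).left ⁻¹ᵁ G x.1
  have hV : c.π.app m.left ⁻¹ᵁ (⨆ x, G' x) = ⊤ := by
    rw [eq_top_iff]
    intro y _
    obtain ⟨x, hxy⟩ := Set.mem_iUnion.1 (hT (Set.mem_univ y))
    obtain ⟨hxT, hy⟩ := Set.mem_iUnion.1 hxy
    show (c.π.app m.left) y ∈ ⨆ x, G' x
    rw [TopologicalSpace.Opens.mem_iSup]
    refine ⟨⟨x, hxT⟩, ?_⟩
    show (D.map (ψ ⟨x, hxT⟩).left) ((c.π.app m.left) y) ∈ G x
    rw [← Scheme.Hom.comp_apply, c.w (ψ ⟨x, hxT⟩).left]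
    exact hy
  obtain ⟨l, f, hl⟩ := exists_map_eq_top D c hc (⨆ x, G' x) hV
  let lo : Over i₀ := Over.mk (f ≫ m.hom)
  let fo : lo ⟶ m := Over.homMk f rfl
  refine ⟨l, f ≫ m.hom, PullGen.isInvertible_pullback _ hL₀, inferInstance, fun z => ?_⟩
  have hz : (D.map f) z ∈ ⨆ x, G' x := by
    have : z ∈ D.map f ⁻¹ᵁ (⨆ x, G' x) := by rw [hl]; trivial
    exact this
  rw [TopologicalSpace.Opens.mem_iSup] at hz
  obtain ⟨x, hzx⟩ := hz
  obtain ⟨n, t, ht⟩ := sec_preimage D i₀ L₀ hL₀ fo (sec_preimage D i₀ L₀ hL₀ (ψ x) (hsec x.1))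
  refine ⟨n, t, ?_, ?_⟩
  · show z ∈ CohB1.genLocus (CohB1.tensorPow (Lj D i₀ L₀ lo) (n + 1)) t
    rw [ht]
    exact hzx
  · show IsAffineOpen (CohB1.genLocus (CohB1.tensorPow (Lj D i₀ L₀ lo) (n + 1)) t)
    rw [ht]
    exact ((haff x.1).preimage (D.map (ψ x).left)).preimage (D.map f)

end Groth.Agent.Helper7.LimAmple
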