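import Mathlib
import Groth.Agent.Lib.Helper7.LimAmple.Main

set_option linter.style.haveILetI false
set_option linter.unusedVariables false
set_option linter.unusedSectionVars false
set_option autoImplicit false
set_option backward.isDefEq.respectTransparency.types false
set_option backward.isDefEq.respectTransparency false
set_option synthInstance.maxHeartbeats 400000
set_option maxHeartbeats 1600000

universe u

/-! helper7: eventual version of the limit-ampleness descent: ampleness on the limit implies ampleness at all sufficiently late stages -/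

open CategoryTheory CategoryTheory.Limits AlgebraicGeometry Opposite TopologicalSpace

namespace Groth.Agent.Helper7.LimAmple

open Groth.Agent.Helper1 Groth.Agent.Helper7.ConsMod

variable {I : Type u} [SmallCategory I] [IsCofiltered I] (D : I ⥤ Scheme.{u}) (c : Cone D)
  (hc : IsLimit c) [∀ (i j : I) (f : i ⟶ j), IsAffineHom (D.map f)] [∀ i, CompactSpace (D.obj i)]
  [∀ i, QuasiSeparatedSpace (D.obj i)] (i₀ : I) (L₀ : (D.obj i₀).Modules)
  (hL₀ : PicF.IsInvertible L₀)

include hc hL₀ in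
/-- ampleness of the pullback of an invertible module to the limit descends to all
sufficiently late stages. -/
theorem main_eventually (h : CohB1.IsAmple ((Scheme.Modules.pullback (c.π.app i₀)).obj L₀)) :
    ∃ l : Over i₀, ∀ (k : Over i₀) (χ : k ⟶ l), CohB1.IsAmple (Lj D i₀ L₀ k) := by
  classical
  have hI : ∀ {i j : I} (f : i ⟶ j), IsAffineHom (D.map f) := fun f => inferInstance
  haveI : CompactSpace c.pt := h.2.1
  choose k G hsec haff hx using exists_sec_of_point D c hc i₀ L₀ hL₀ h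
  obtain ⟨T, hT⟩ := isCompact_univ.elim_finite_subcover
    (fun x : c.pt => ((c.π.app (k x).left ⁻¹ᵁ G x : c.pt.Opens) : Set c.pt))
    (fun x => (c.π.app (k x).left ⁻¹ᵁ G x).isOpen) (fun x _ => Set.mem_iUnion.2 ⟨x, hx x⟩)
  obtain ⟨m, hm⟩ := IsCofiltered.inf_objs_exists (T.image k)
  let ψ : ∀ x : {x // x ∈ T}, m ⟶ k x.1 := fun x => (hm (Finset.mem_image_of_mem k x.2)).some
  let G' : {x // x ∈ T} → (D.obj m.left).Opens := fun x => D.map (ψ x).left ⁻¹ᵁ G x.1
  have hV : c.π.app m.left ⁻¹ᵁ (⨆ x, G' x) = ⊤ := by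
    rw [eq_top_iff]
    intro y _
    obtain ⟨x, hxy⟩ := Set.mem_iUnion.1 (hT (Set.mem_univ y))
    obtain ⟨hxT, hy⟩ := Set.mem_iUnion.1 hxy
    show (c.π.app m.left) y ∈ ⨆ x, G' x
    rw [TopologicalSpace.Opens.mem_iSup]
    refine ⟨⟨x, hxT⟩, ?_⟩
    show (D.map (ψ ⟨x, hxT⟩).left) ((c.π.app m.left) y) ∈ G x
    rw [← Scheme.Hom.comp_apply, c.w (ψ ⟨x, hxT⟩).left]
    exact hy
  obtain ⟨l, f, hl⟩ := exists_map_eq_top D c hc (⨆ x, G' x) hV
  let lo : Over i₀ := Over.mk (f ≫ m.hom)
  let fo : lo ⟶ m := Over.homMk f rfl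
  refine ⟨lo, fun k' χ => ⟨PullGen.isInvertible_pullback _ hL₀, inferInstance, fun z => ?_⟩⟩
  have e1 : (D.map (χ ≫ fo).left) z = (D.map f) ((D.map χ.left) z) := by
    have e0 : (χ ≫ fo).left = χ.left ≫ f := rfl
    rw [e0, D.map_comp, Scheme.Hom.comp_apply]
    rfl
  have hz : (D.map f) ((D.map χ.left) z) ∈ ⨆ x, G' x := by
    have : (D.map χ.left) z ∈ D.map f ⁻¹ᵁ (⨆ x, G' x) := by rw [hl]; trivial
    exact this
  rw [TopologicalSpace.Opens.mem_iSup] at hz
  obtain ⟨x, hzx⟩ := hz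
  obtain ⟨n, t, ht⟩ := sec_preimage D i₀ L₀ hL₀ (χ ≫ fo)
    (sec_preimage D i₀ L₀ hL₀ (ψ x) (hsec x.1))
  refine ⟨n, t, ?_, ?_⟩
  · rw [ht]
    show (D.map (χ ≫ fo).left) z ∈ G' x
    rw [e1]
    exact hzx
  · rw [ht]
    exact ((haff x.1).preimage (D.map (ψ x).left)).preimage (D.map (χ ≫ fo).left)

end Groth.Agent.Helper7.LimAmple
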