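import Mathlib
import Groth.Prelude.Def_LCI2
import Groth.Agent.Lib.Helper7.LimAmple.Event
import Groth.Agent.Lib.Helper7.GenStage.Main
import Groth.Agent.Lib.Helper1.PullBC
import Groth.Agent.Lib.Helper1.AmpleGlue2

set_option linter.style.haveILetI false
set_option linter.unusedVariables false
set_option linter.unusedSectionVars false
set_option autoImplicit false
set_option backward.isDefEq.respectTransparency.types false
set_option backward.isDefEq.respectTransparency false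
set_option synthInstance.maxHeartbeats 400000
set_option maxHeartbeats 1600000

universe u

/-! helper7: relative ampleness of the base change of an invertible module to a cofiltered limit holds iff it holds at a finite stage (per-affine descent via the eventual ampleness descent, base change and locality on the base) -/

open CategoryTheory CategoryTheory.Limits AlgebraicGeometry Opposite TopologicalSpace

namespace Groth.Agent.Helper7.LimAmple

open Groth.Agent.Helper1 Groth.Agent.Helper7.ConsMod Groth.Agent.Helper7.LimBC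
  Groth.Agent.Helper7.GenStage

section Basic

/-- relative ampleness transports along isomorphisms of modules. -/
theorem isRelAmple_of_iso {X S : Scheme.{u}} (f : X ⟶ S) {M M' : X.Modules} (e : M ≅ M')
    (h : RelAmple.IsRelAmple f M) : RelAmple.IsRelAmple f M' :=
  ⟨h.1, fun V => TwistAmpleOpen.isAmple_of_iso
    ((Scheme.Modules.restrictFunctor (f ⁻¹ᵁ V.1).ι).mapIso e) (h.2 V)⟩

/-- restriction of a pullback to an open, through a factorization of the restricted map. -/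
noncomputable def restrFacIso {Z S B : Scheme.{u}} (u : Z ⟶ S) (U' : Z.Opens)
    (p : (↑U' : Scheme.{u}) ⟶ B) (q : B ⟶ S) (w : p ≫ q = U'.ι ≫ u) (L : S.Modules) :
    ((Scheme.Modules.pullback u).obj L).restrict U'.ι ≅
      (Scheme.Modules.pullback p).obj ((Scheme.Modules.pullback q).obj L) :=
  (Scheme.Modules.restrictFunctorIsoPullback U'.ι).app _ ≪≫
    (pullbackFacIso (rfl : U'.ι ≫ u = U'.ι ≫ u) L).symm ≪≫ pullbackFacIso w L

end Basic

section Stage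

variable {I : Type u} [SmallCategory I] [IsCofiltered I] (D : I ⥤ Scheme.{u}) (c : Cone D)
  (hc : IsLimit c) [∀ (i j : I) (f : i ⟶ j), IsAffineHom (D.map f)] (i₀ : I)

include hc in
/-- ampleness over a quasi-compact quasi-separated open of the base-changed limit descends to all
late stages. -/
theorem exists_stage_open {X₀ : Scheme.{u}} (a₀ : X₀ ⟶ D.obj i₀) (L₀ : X₀.Modules)
    (hL₀ : PicF.IsInvertible L₀) {X : Scheme.{u}} (qX : X ⟶ X₀) (gX : X ⟶ c.pt)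
    (hXa : IsPullback qX gX a₀ (c.π.app i₀)) (T : X₀.Opens) [CompactSpace (↑T : Scheme.{u})]
    [QuasiSeparatedSpace (↑T : Scheme.{u})]
    (h : CohB1.IsAmple (((Scheme.Modules.pullback qX).obj L₀).restrict (qX ⁻¹ᵁ T).ι)) :
    ∃ l : Over i₀, ∀ (k : Over i₀) (χ : k ⟶ l),
      CohB1.IsAmple (((Scheme.Modules.pullback (pullback.fst a₀ (D.map k.hom))).obj L₀).restrict
        ((pullback.fst a₀ (D.map k.hom)) ⁻¹ᵁ T).ι) := by
  have hI : ∀ {i j : I} (f : i ⟶ j), IsAffineHom (D.map f) := fun f => inferInstance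
  let aT : (↑T : Scheme.{u}) ⟶ D.obj i₀ := T.ι ≫ a₀
  have hTa : IsPullback (qX ∣_ T) ((qX ⁻¹ᵁ T).ι ≫ gX) aT (c.π.app i₀) :=
    (isPullback_morphismRestrict qX T).paste_vert hXa
  haveI : ∀ (j k : Over i₀) (u : j ⟶ k), IsAffineHom ((bcDiagram D i₀ aT).map u) :=
    fun _ _ u => inferInstance
  let j₀ : Over i₀ := Over.mk (𝟙 i₀)
  let L₀' : ((bcDiagram D i₀ aT).obj j₀).Modules :=
    (Scheme.Modules.pullback (pullback.fst aT (D.map j₀.hom) ≫ T.ι)).obj L₀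
  have hL₀' : PicF.IsInvertible L₀' := PullGen.isInvertible_pullback _ hL₀
  have w1 : (bcCone (D := D) (c := c) (a := aT) hTa).π.app j₀ ≫
      (pullback.fst aT (D.map j₀.hom) ≫ T.ι) = (qX ⁻¹ᵁ T).ι ≫ qX := by
    rw [bcCone_π_fst_assoc]
    exact morphismRestrict_ι qX T
  have h0 : CohB1.IsAmple ((Scheme.Modules.pullback
      ((bcCone (D := D) (c := c) (a := aT) hTa).π.app j₀)).obj L₀') :=
    TwistAmpleOpen.isAmple_of_iso (restrFacIso qX (qX ⁻¹ᵁ T) _ _ w1 L₀) h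
  obtain ⟨l', hl'⟩ := main_eventually (bcDiagram D i₀ aT)
    (bcCone (D := D) (c := c) (a := aT) hTa) (isLimitBcCone hc hTa) j₀ L₀' hL₀' h0
  refine ⟨l'.left, fun k χ => ?_⟩
  let ρ : k ⟶ j₀ := χ ≫ l'.hom
  have hk : CohB1.IsAmple ((Scheme.Modules.pullback ((bcDiagram D i₀ aT).map ρ)).obj L₀') :=
    hl' (Over.mk ρ) (Over.homMk χ rfl)
  have w2 : (bcDiagram D i₀ aT).map ρ ≫ (pullback.fst aT (D.map j₀.hom) ≫ T.ι) =
      pullback.fst aT (D.map k.hom) ≫ T.ι := by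
    rw [bcDiagram_map_fst_assoc]
  have h3 : CohB1.IsAmple
      ((Scheme.Modules.pullback (pullback.fst aT (D.map k.hom) ≫ T.ι)).obj L₀) :=
    TwistAmpleOpen.isAmple_of_iso (pullbackFacIso w2 L₀).symm hk
  set pXk := pullback.fst a₀ (D.map k.hom) with hpXk
  have P2 : IsPullback (pXk ∣_ T) ((pXk ⁻¹ᵁ T).ι ≫ pullback.snd a₀ (D.map k.hom)) aT
      (D.map k.hom) :=
    (isPullback_morphismRestrict pXk T).paste_vert (IsPullback.of_hasPullback a₀ (D.map k.hom))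
  let θ := P2.isoPullback
  have hθ : θ.hom ≫ pullback.fst aT (D.map k.hom) = pXk ∣_ T := P2.isoPullback_hom_fst
  have w3 : θ.hom ≫ (pullback.fst aT (D.map k.hom) ≫ T.ι) = (pXk ⁻¹ᵁ T).ι ≫ pXk := by
    rw [reassoc_of% hθ]
    exact morphismRestrict_ι pXk T
  have h4 := PullAmple.isAmple_pullback_of_isQuasiAffine θ.hom
    (PullAmple.isQuasiAffine_of_isAffineHom θ.hom) h3
  exact TwistAmpleOpen.isAmple_of_iso (restrFacIso pXk (pXk ⁻¹ᵁ T) θ.hom _ w3 L₀).symm h4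

variable {X₀ Y₀ : Scheme.{u}} (f₀ : X₀ ⟶ Y₀) (g₀ : Y₀ ⟶ D.obj i₀)

/-- relative ampleness at a stage gives relative ampleness on the limit. -/
theorem of_stage (L₀ : X₀.Modules) {X Y : Scheme.{u}} (f : X ⟶ Y) (g : Y ⟶ c.pt) (qY : Y ⟶ Y₀)
    (qX : X ⟶ X₀) (hY : IsPullback qY g g₀ (c.π.app i₀)) (hX : IsPullback qX f f₀ qY)
    (j : I) (φ : j ⟶ i₀) (Xj Yj : Scheme.{u}) (fj : Xj ⟶ Yj) (gj : Yj ⟶ D.obj j) (pY : Yj ⟶ Y₀)
    (pX : Xj ⟶ X₀) (hYj : IsPullback pY gj g₀ (D.map φ)) (hXj : IsPullback pX fj f₀ pY)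
    (h : RelAmple.IsRelAmple fj ((Scheme.Modules.pullback pX).obj L₀)) :
    RelAmple.IsRelAmple f ((Scheme.Modules.pullback qX).obj L₀) := by
  let rY : Y ⟶ Yj := hYj.lift qY (g ≫ c.π.app j) (by
    rw [Category.assoc, c.w φ]
    exact hY.w)
  have hrY1 : rY ≫ pY = qY := hYj.lift_fst _ _ _
  let rX : X ⟶ Xj := hXj.lift qX (f ≫ rY) (by
    rw [Category.assoc, hrY1]
    exact hX.w)
  have hrX1 : rX ≫ pX = qX := hXj.lift_fst _ _ _
  have hrX2 : rX ≫ fj = f ≫ rY := hXj.lift_snd _ _ _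
  have hsq : IsPullback rX f fj rY := by
    refine IsPullback.of_right (h₁₂ := pX) (h₂₂ := pY) (v₁₃ := f₀) ?_ hrX2 hXj
    rw [hrX1, hrY1]
    exact hX
  haveI : QuasiCompact fj := h.1
  have h1 := PullAmple.isRelAmple_baseChange fj rY _ h
  have h2 := PullAmple.isRelAmple_pullback_of_isQuasiAffine hsq.isoPullback.hom
    (pullback.snd fj rY) (PullAmple.isQuasiAffine_of_isAffineHom _) h1
  rw [hsq.isoPullback_hom_snd] at h2
  exact isRelAmple_of_iso f ((pullbackFacIso hsq.isoPullback_hom_fst _).symm ≪≫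
    (pullbackFacIso hrX1 L₀).symm) h2

include hc in
/-- relative ampleness on the limit descends to a finite stage. -/
theorem exists_stage [CompactSpace (D.obj i₀)] [QuasiCompact g₀] [QuasiSeparated g₀]
    [QuasiCompact (f₀ ≫ g₀)] [QuasiSeparated (f₀ ≫ g₀)] (L₀ : X₀.Modules)
    (hL₀ : PicF.IsInvertible L₀) {X Y : Scheme.{u}} (f : X ⟶ Y) (g : Y ⟶ c.pt) (qY : Y ⟶ Y₀)
    (qX : X ⟶ X₀) (hY : IsPullback qY g g₀ (c.π.app i₀)) (hX : IsPullback qX f f₀ qY)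
    (h : RelAmple.IsRelAmple f ((Scheme.Modules.pullback qX).obj L₀)) :
    ∃ (j : I) (φ : j ⟶ i₀) (Xj Yj : Scheme.{u}) (fj : Xj ⟶ Yj) (gj : Yj ⟶ D.obj j)
      (pY : Yj ⟶ Y₀) (pX : Xj ⟶ X₀), IsPullback pY gj g₀ (D.map φ) ∧ IsPullback pX fj f₀ pY ∧
        RelAmple.IsRelAmple fj ((Scheme.Modules.pullback pX).obj L₀) := by
  classical
  have hI : ∀ {i j : I} (f : i ⟶ j), IsAffineHom (D.map f) := fun f => inferInstance
  haveI hπ : IsAffineHom (c.π.app i₀) := isAffineHom_π_app D c hc i₀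
  haveI : CompactSpace Y₀ := QuasiCompact.compactSpace_of_compactSpace g₀
  haveI : QuasiSeparated f₀ := QuasiSeparated.of_comp f₀ g₀
  haveI : QuasiCompact f₀ := QuasiCompact.of_comp f₀ g₀
  haveI : IsAffineHom qY := MorphismProperty.of_isPullback (P := @IsAffineHom) hY.flip hπ
  have hXa : IsPullback qX (f ≫ g) (f₀ ≫ g₀) (c.π.app i₀) := hX.paste_vert hY
  have key : ∀ V : Y₀.affineOpens, ∃ l : Over i₀, ∀ (k : Over i₀) (χ : k ⟶ l),
      CohB1.IsAmple (((Scheme.Modules.pullback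
        (pullback.fst (f₀ ≫ g₀) (D.map k.hom))).obj L₀).restrict
          ((pullback.fst (f₀ ≫ g₀) (D.map k.hom)) ⁻¹ᵁ (f₀ ⁻¹ᵁ V.1)).ι) := by
    intro V
    haveI : IsAffine (↑V.1 : Scheme.{u}) := V.2
    haveI : CompactSpace (↑(f₀ ⁻¹ᵁ V.1) : Scheme.{u}) :=
      isCompact_iff_compactSpace.mp (f₀.isCompact_preimage V.2.isCompact)
    haveI : QuasiSeparatedSpace (↑(f₀ ⁻¹ᵁ V.1) : Scheme.{u}) :=
      quasiSeparatedSpace_of_quasiSeparated (f₀ ∣_ V.1)
    have hV' : IsAffineOpen (qY ⁻¹ᵁ V.1) := V.2.preimage qY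
    have h1 := h.2 ⟨qY ⁻¹ᵁ V.1, hV'⟩
    have hop : f ⁻¹ᵁ (qY ⁻¹ᵁ V.1) = qX ⁻¹ᵁ (f₀ ⁻¹ᵁ V.1) := by
      show (f ≫ qY) ⁻¹ᵁ V.1 = (qX ≫ f₀) ⁻¹ᵁ V.1
      rw [hX.w]
    have h2 := (AmpleLib.isAmple_restrict_ι_congr hop _).mp h1
    exact exists_stage_open D c hc i₀ (f₀ ≫ g₀) L₀ hL₀ qX (f ≫ g) hXa (f₀ ⁻¹ᵁ V.1) h2
  choose l hl using key
  obtain ⟨s, hs⟩ := isCompact_univ.elim_finite_subcover
    (fun V : Y₀.affineOpens => ((V.1 : Y₀.Opens) : Set Y₀)) (fun V => V.1.isOpen)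
    (fun y _ => by
      obtain ⟨_, ⟨V, hV, rfl⟩, hyV, -⟩ :=
        Y₀.isBasis_affineOpens.exists_subset_of_mem_open (Set.mem_univ y) isOpen_univ
      exact Set.mem_iUnion.2 ⟨⟨V, hV⟩, hyV⟩)
  obtain ⟨m, hm⟩ := IsCofiltered.inf_objs_exists (s.image l)
  set pX := pullback.fst (f₀ ≫ g₀) (D.map m.hom) with hpX
  set pY := pullback.fst g₀ (D.map m.hom) with hpY
  set fm := bcMap f₀ g₀ m with hfm
  have hYm : IsPullback pY (pullback.snd g₀ (D.map m.hom)) g₀ (D.map m.hom) :=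
    IsPullback.of_hasPullback _ _
  have hw : pX ≫ f₀ = fm ≫ pY := (bcMap_bcFst f₀ g₀ m).symm
  have hXm : IsPullback pX fm f₀ pY := by
    refine IsPullback.of_bot (v₂₁ := pullback.snd g₀ (D.map m.hom)) (v₂₂ := g₀)
      (h₃₁ := D.map m.hom) ?_ hw hYm
    rw [hfm, bcMap_snd]
    exact IsPullback.of_hasPullback _ _
  refine ⟨m.left, m.hom, _, _, fm, pullback.snd g₀ (D.map m.hom), pY, pX, hYm, hXm, ?_⟩
  haveI : QuasiCompact fm := MorphismProperty.of_isPullback (P := @QuasiCompact) hXm inferInstance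
  let U : {V // V ∈ s} → (pullback g₀ (D.map m.hom)).Opens := fun V => pY ⁻¹ᵁ V.1.1
  have hU : ⨆ V, U V = ⊤ := by
    rw [eq_top_iff]
    intro y _
    obtain ⟨V, hV⟩ := Set.mem_iUnion.1 (hs (Set.mem_univ (pY y)))
    obtain ⟨hVs, hy⟩ := Set.mem_iUnion.1 hV
    show y ∈ ⨆ V, U V
    rw [TopologicalSpace.Opens.mem_iSup]
    exact ⟨⟨V, hVs⟩, hy⟩
  refine (AmpleLib.isRelAmple_iff_of_openCover fm _ U hU).mpr (fun V => ?_)
  obtain ⟨χ⟩ := hm (Finset.mem_image_of_mem l V.2)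
  have h1 := hl V.1 m χ
  have hop : pX ⁻¹ᵁ (f₀ ⁻¹ᵁ V.1.1) = fm ⁻¹ᵁ (U V) := by
    show (pX ≫ f₀) ⁻¹ᵁ V.1.1 = (fm ≫ pY) ⁻¹ᵁ V.1.1
    rw [hw]
  have h2 := (AmpleLib.isAmple_restrict_ι_congr hop _).mp h1
  refine ⟨inferInstance, fun W => ?_⟩
  exact AmpleLib.isAmple_restrict_of_isCompact h2 _
    ((fm ∣_ U V).isCompact_preimage W.2.isCompact)

include hc in
/-- relative ampleness of the base change to the limit holds iff it holds at some stage. -/
theorem rel_main [CompactSpace (D.obj i₀)] [QuasiCompact g₀] [QuasiSeparated g₀]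
    [QuasiCompact (f₀ ≫ g₀)] [QuasiSeparated (f₀ ≫ g₀)] (L₀ : X₀.Modules)
    (hL₀ : PicF.IsInvertible L₀) {X Y : Scheme.{u}} (f : X ⟶ Y) (g : Y ⟶ c.pt) (qY : Y ⟶ Y₀)
    (qX : X ⟶ X₀) (hY : IsPullback qY g g₀ (c.π.app i₀)) (hX : IsPullback qX f f₀ qY) :
    RelAmple.IsRelAmple f ((Scheme.Modules.pullback qX).obj L₀) ↔
      ∃ (j : I) (φ : j ⟶ i₀) (Xj Yj : Scheme.{u}) (fj : Xj ⟶ Yj) (gj : Yj ⟶ D.obj j)
        (pY : Yj ⟶ Y₀) (pX : Xj ⟶ X₀), IsPullback pY gj g₀ (D.map φ) ∧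
          IsPullback pX fj f₀ pY ∧
            RelAmple.IsRelAmple fj ((Scheme.Modules.pullback pX).obj L₀) := by
  constructor
  · intro h
    exact exists_stage D c hc i₀ f₀ g₀ L₀ hL₀ f g qY qX hY hX h
  · rintro ⟨j, φ, Xj, Yj, fj, gj, pY, pX, hYj, hXj, h⟩
    exact of_stage D c i₀ f₀ g₀ L₀ f g qY qX hY hX j φ Xj Yj fj gj pY pX hYj hXj h

end Stage

end Groth.Agent.Helper7.LimAmple
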